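import Cfsg.Agent.Lib.Chev.D4Cyclic.Tables
import Cfsg.Agent.Lib.Chev.Fast

/-!
Tables for the Levi subgroup of type `A₂` in `D₄` cut out by an element of order seven over eight elements.
-/

set_option autoImplicit false

namespace Cfsg.Agent.Lib.Chev.D4Cyclic

open Cfsg.Lie Cfsg.Agent.Lib Cfsg.Agent.Lib.Chev

/-- exponent modulo seven -/
def e2 (s : ℕ) : ℤ := ev 2 s % 7

/-- the six roots of trivial exponent -/
def cls0 : List ℕ := [14, 9, 22, 1, 23, 0]

theorem cls0_spec : (allBelow 24 fun s => decide (12 ≤ s → e2 s = 0 → s = 14 ∨ s = 22 ∨ s = 23)) = true ∧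
    ∀ r ∈ cls0, r < 24 ∧ D4.sym.r r = r ∧ (D4.fast.A 0 r + 2 * D4.fast.A 2 r + 4 * D4.fast.A 3 r) % 7 = 0 := by
  decide +kernel

/-- the reflection in the root `22`, as a word in nodes -/
def w22 : List ℕ := [0, 2, 3, 1, 3, 2, 0]

/-- permutations as node words, and the matching root words -/
def wts : List (List ℕ × List ℕ) :=
  [([], []), ([1], [14, 9, 14]), (w22, [22, 1, 22]), ([1] ++ w22, [14, 9, 14] ++ [22, 1, 22]),
    (w22 ++ [1], [22, 1, 22] ++ [14, 9, 14]), ([1] ++ w22 ++ [1], [14, 9, 14] ++ [22, 1, 22] ++ [14, 9, 14])]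

/-- image of a root under a node word -/
def img (w : List ℕ) (r : ℕ) : ℕ := w.foldr (fun i x => D4.fast.w i x) r

theorem refl_all : ∀ i < 4, ∀ r < 24, chevD4.reflectRoot i r = D4.fast.w i r ∧ D4.fast.w i r < 24 := by
  decide +kernel

theorem wts_spec : ∀ w ∈ wts, (∀ i ∈ w.1, i < 4) ∧ (∀ r ∈ w.2, r ∈ cls0) := by decide +kernel

theorem perm_two : (allBelow 24 fun a => !(beqI (e2 a) (e2 18)) || allBelow 24 fun b =>
    !(beqI (e2 b) (e2 14) && beqI (D4.fast.pr a b) (D4.fast.pr 18 14)) || allBelow 24 fun c =>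
    !(beqI (e2 c) (e2 13) && beqI (D4.fast.pr a c) (D4.fast.pr 18 13) && beqI (D4.fast.pr b c) (D4.fast.pr 14 13)) ||
      allBelow 24 fun d =>
    !(beqI (e2 d) (e2 12) && beqI (D4.fast.pr a d) (D4.fast.pr 18 12) && beqI (D4.fast.pr b d) (D4.fast.pr 14 12) &&
        beqI (D4.fast.pr c d) (D4.fast.pr 13 12)) ||
      wts.any fun w => Nat.beq (img w.1 18) a && Nat.beq (img w.1 14) b && Nat.beq (img w.1 13) c &&
        Nat.beq (img w.1 12) d) = true := by
  decide +kernel

/-! ### action on the three root vectors `6, 18, 19` -/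

/-- the transvection of a root of trivial exponent -/
def trv : ℕ → ℕ × ℕ
  | 14 => (1, 2)
  | 9 => (2, 1)
  | 22 => (0, 1)
  | 1 => (1, 0)
  | 23 => (0, 2)
  | _ => (2, 0)

/-- action of a root element on a mask -/
def act1 (r N : ℕ) : ℕ := bif N.testBit (trv r).1 then N ^^^ 2 ^ (trv r).2 else N

/-- action of a word -/
def actW (l : List ℕ) (N : ℕ) : ℕ := l.foldr act1 N

theorem act1_facts : ∀ r ∈ cls0, ∀ a < 8, act1 r a < 8 ∧ ∀ b < 8, act1 r (a ^^^ b) = act1 r a ^^^ act1 r b := by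
  decide +kernel

/-- the roots of a mask among `14, 22, 23` -/
def sel (m : ℕ) : List ℕ :=
  (bif m.testBit 0 then [14] else []) ++ (bif m.testBit 1 then [22] else []) ++ (bif m.testBit 2 then [23] else [])

theorem sel_spec : ∀ m < 8, ∀ r ∈ sel m, r ∈ cls0 ∧ 12 ≤ r := by decide +kernel

/-- whether two words act in the same way -/
def sameAct (l l' : List ℕ) : Bool :=
  Nat.beq (actW l 1) (actW l' 1) && Nat.beq (actW l 2) (actW l' 2) && Nat.beq (actW l 4) (actW l' 4)

theorem form_check : (allBelow 8 fun mv => allBelow 8 fun mu => wts.all fun w =>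
    !((sel mu).all fun r => Nat.blt (img w.1 r) 12) ||
    !(sameAct ([14, 9] ++ (sel mv ++ w.2 ++ sel mu)) ((sel mv ++ w.2 ++ sel mu) ++ [14, 9])) ||
      (sel mv ++ w.2 ++ sel mu).all fun r => Nat.beq r 14 || Nat.beq r 9) = true := by
  decide +kernel

theorem form_check' : (allBelow 8 fun mv => allBelow 8 fun mu => wts.all fun w =>
    !((sel mu).all fun r => Nat.blt (img w.1 r) 12) ||
    !(sameAct ([9, 14] ++ (sel mv ++ w.2 ++ sel mu)) ((sel mv ++ w.2 ++ sel mu) ++ [9, 14])) ||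
      (sel mv ++ w.2 ++ sel mu).all fun r => Nat.beq r 14 || Nat.beq r 9) = true := by
  decide +kernel

theorem chain_cls0 : ∀ r ∈ cls0, ∀ k < 3, ([6, 18, 19].getD k 0) ≠ r ∧ ([6, 18, 19].getD k 0) ≠ 23 - r ∧
    (decode (D4.fast.code r ([6, 18, 19].getD k 0))).map (fun p => (p.1, p.2.natAbs)) =
      bif Nat.beq (trv r).1 k then [([6, 18, 19].getD (trv r).2 0, 1)] else [] := by
  decide +kernel

theorem w22_images : (([14, 9, 14].map (D4.fast.w 3)).map (D4.fast.w 2)).map (D4.fast.w 0) = [22, 1, 22] := by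
  decide +kernel

end Cfsg.Agent.Lib.Chev.D4Cyclic
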